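import Cfsg.Agent.CosetEnum.Step
import Cfsg.Agent.CosetEnum.Suz.AP0
import Cfsg.Agent.CosetEnum.Suz.AP1
import Cfsg.Agent.CosetEnum.Suz.AP2

/-! Certificate of a coset enumeration (generated data, owner: helper28). -/

set_option autoImplicit false
set_option maxRecDepth 1000000

namespace Cfsg.Agent.CosetEnum.SuzA

theorem st : staticOK 7 iv (RL.map expand) subs P L = true := by decide +kernel

theorem seg : Seg P L P.m 1782 :=
  (((Seg.nil).snoc part0).snoc part1).snoc part2

theorem cert : Cert 7 iv RL subs 1782 := fun g H hl hrels hsubs =>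
  upper g H 7 iv hl (RL.map expand) subs hrels hsubs P L rfl st seg

end Cfsg.Agent.CosetEnum.SuzA
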