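import Cfsg.Agent.CosetEnum.Suz.CData

/-! Certificate of a coset enumeration (generated data, owner: helper28). -/

set_option autoImplicit false
set_option maxRecDepth 1000000

namespace Cfsg.Agent.CosetEnum.SuzC

def ck0 : CK := .cons 32 27 0x2411000175004a200017500080240120010008004000400048004802400200020110048024440007e8024220000fd000100080440120090088064002000048044022880002d40320190048004000402201100480088004002001000800480640320110048024022009004804400200900480040020010020010008004 ( .cons 32 24 0x8000806400200320090019000802401201900080042200017d0000201100090001000888002450009008a20001150049100011500010011004800480441100023d00093300046a880008b4012019008800480240320090000200020002009000900c800080040120090011110002fa01100c80040 ( .cons 32 18 0xc800400040004002402201111000dda00900c80440024012aa0007340025100011e804400240020002000200024198003f5000802510000d6800554000d2910001ad08800067510001de80640120002001000100010009440006fa001044000d940120093300069a011440012ba66000d14022009004800880640000900110009 ( .cons 32 13 0x4a200029d001122000dda01944000b4a00900899800295004aa800295000a2000285000aa80027d330004fa00933000ada880015940320000480088004800400040220115500049a00933000a2a8800143400288000914088004050088065100021680a4012009110012bc044001fa91000a1500c804403200101080240120002011000900012011000120190048 ( .cons 32 20 0x641980036d000aa80035d004a20005fd0009220012ba66000d7401222002574440036e80440120110009001900c800c800c8024000080240120110002201900012002200120010001008804400244001bf401244001bd40220090048008aa80036d001911000b4a0090088000900c802400008000998006fd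 ( .cons 32 11 0x440040a80840120110088001100c804400048000a2000405550007fa0880037f00840044880037b2a8003ed0009044001c740220cc001f6804554001f28024cc001ea8550007aa154001e280a4220003c544000f4a001244000ef403288001e540220012000240220002400040020290048024002aa001d1400266001cf51000502802488001bea200071d ( .cons 32 24 0x1550009ba009088001374880026e8024cc004ae9100094d00480440220190088064012011008806401200044000090019000806400200100022001201900110048024000090011004800090088000900010008044012009440008aa6600113403201100c80040220090048000aa8004fd ( .cons 32 11 0x320042009004800110048024033000b9aaa001734012440016740128800165510002c6855000b1a001244002814880039680240880056500c800c800c8024000080a401200900880011000aa8009bd4400137a0190aa0026b42200051d0aa0028380024cc004d28024cc004ce804444004ca811000a1a011008998004ed008a2000815008a200059d ( .cons 32 20 0x4022001200000a2000b5500090008004880059a80048008a2000b3500010008004012aa002c94000880008000900c80640024000080440120090088001144000ebaaa001d54cc003168004a20006250049980097500880240220012003288001814022011110014ea01100079500080040020010009 ( .cons 32 15 0x110000240065540056a8004002403200120110019800bfd44000e9a0cc003a280242200072d044001c941100081d00c8025100038a8004aa8006ed088001bb400244001c540008a20007c5004a20006dd33000e1a0090048064004401200900c8008800480008044000401201100880640 ( .cons 32 20 0x320090011001704002e0800016540005b1000b620011001100c80a400048064000bca4400139a0006050440010aa009088002114042011220018ea019008800a9a00c8064005cd0044005cd0064005d50024000080108024002000201100880240044000401222002d540220310009000052500440052500040320032000515000a2a00145444001f5402201911000f8aaa001e742200079d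 ( .cons 32 12 0x6100094400142a0090110004a68004002001000804401200b205100080048008802409200120090041000100390009018800c8000100110029001100080aa0028b48800472a2000a4d110011aa0cc0047283300118a88002354440045aaa8008c500171400100090011 ( .cons 32 29 0x90008064000480048064000c800000002001001900000022000240000800080040024004403200900012002200900090000206900c8064002000240020110000201100c8044006350064000c720000000240004806402200900c80640020022011000910009cd00110009 ( .cons 32 31 0x4800000190048000800080002207100000c8064012002200900c80088064012000240000800c8004800880240320190108024022019000900010008004804400040000800190000009000000000000800400048004800c8000120022009000900c806400008 ( .cons 5 5 0x240320110088000800480440024002400440220090009 ( .nil )))))))))))))))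

theorem part0 : chunks P L 453 ck0 0 280 = true := by decide +kernel

end Cfsg.Agent.CosetEnum.SuzC
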