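import Cfsg.Agent.CosetEnum.Level
import Cfsg.Agent.CosetEnum.Suz.T5R0
import Cfsg.Agent.CosetEnum.Suz.T5H

/-! Permutation table (generated data, owner: helper28). -/

set_option autoImplicit false
set_option maxRecDepth 1000000

namespace Cfsg.Agent.CosetEnum.SuzT5

theorem st : letsB 5 iv lets RL = true := by decide +kernel

theorem sk : subB 4 iv letsk = true := by decide +kernel

theorem tabOK : TabOK P 5 iv lets RL := ⟨st, Cov.of r0 rfl⟩

theorem covO : Cov (orbC P lets [] 0 P.m) 0 P.m := Cov.of o0 rfl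

theorem orbs : Orbs P letsk [] [0, 1, 37, 172, 280] :=
  ⟨by decide +kernel, by decide +kernel, Cov.of h0 rfl, ⟨by decide +kernel, by decide +kernel, Cov.of h1 rfl, ⟨by decide +kernel, by decide +kernel, Cov.of h2 rfl, ⟨by decide +kernel, by decide +kernel, Cov.of h3 rfl, trivial⟩⟩⟩⟩

theorem last : lastD 1 [37, 172, 280] = P.m := rfl

end Cfsg.Agent.CosetEnum.SuzT5
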