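import Cfsg.Agent.CosetEnum.Suz.T7Data

/-! Permutation table (generated data, owner: helper28). -/

set_option autoImplicit false
set_option maxRecDepth 1000000

namespace Cfsg.Agent.CosetEnum.SuzT7

theorem h0 : allR (orbC P letsk [] 0 1) 0 1 = true := by decide +kernel

theorem h1 : allR (orbC P letsk [] 1 1366) 1 1365 = true := by decide +kernel

theorem h2 : allR (orbC P letsk [] 1366 1782) 1366 416 = true := by decide +kernel

end Cfsg.Agent.CosetEnum.SuzT7
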