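import Cfsg.Agent.CosetEnum.Suz.A
import Cfsg.Agent.CosetEnum.Suz.B
import Cfsg.Agent.CosetEnum.Suz.C
import Cfsg.Agent.CosetEnum.Suz.D
import Cfsg.Agent.CosetEnum.Suz.E
import Cfsg.Agent.CosetEnum.Suz.K1
import Cfsg.Agent.CosetEnum.Suz.K2
import Cfsg.Agent.CosetEnum.Suz.T5
import Cfsg.Agent.CosetEnum.Suz.T6
import Cfsg.Agent.CosetEnum.Suz.T7
import Cfsg.Agent.CosetEnum.Suz.X5
import Cfsg.Agent.CosetEnum.Suz.Z5

/-!
The chain `J₂ < G₂(4) < Suz` of presented groups (owner: helper28).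
-/

set_option autoImplicit false
set_option maxRecDepth 1000000

namespace Cfsg.Agent.CosetEnum.Suz

/-! ### `J₂` -/

/-- the presented `J₂` -/
abbrev Q5 : Type := QG 5 SuzT5.iv SuzT5.RL

/-- its letters -/
abbrev q5 : ℕ → Q5 := qg 5 SuzT5.iv SuzT5.RL

theorem U5 : Univ q5 5 SuzT5.iv SuzT5.RL := univ_qg _ _ _

theorem bd5 : Bd (⊤ : Subgroup Q5) 604800 := by
  have g := U5.good
  rw [← U5.top]
  have h2 := (Bd.zero q5).cl (M := 10) SuzE.cert g (by decide +kernel) (by decide +kernel) (by norm_num) rfl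
  have h4 := h2.cl (M := 2160) SuzD.cert g (by decide +kernel) (by decide +kernel) (by norm_num) rfl
  exact h4.cl (M := 604800) SuzC.cert g (by decide +kernel) (by decide +kernel) (by norm_num) rfl

theorem L5 : Lvl q5 5 SuzT5.iv SuzT5.lets SuzT5.P 4 [37, 172, 280] :=
  lvl_of U5 SuzT5.tabOK SuzT5.sk (by norm_num) SuzT5.covO SuzT5.orbs SuzT5.last (show 1 < 280 by norm_num)
    (SuzC.cert.cl U5.good (by decide +kernel) (by decide +kernel) (by norm_num))

theorem F5 : Faith q5 SuzT5.lets SuzT5.P ∧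
    ((∃ A : MulAction Q5 (Fin SuzT5.P.m), @Acts Q5 _ SuzT5.P A q5 SuzT5.lets) → Nat.card Q5 = 604800) :=
  faith_of_chain SuzT5.tabOK.subB U5.top SuzT5.chain bd5 (by decide +kernel)

theorem card5 : Nat.card Q5 = 604800 := by
  obtain ⟨A, _, _, _, _, hA, _⟩ := L5.ex
  exact F5.2 ⟨A, hA⟩

theorem simple5 : IsSimpleGroup Q5 := by
  have hus : SuzT5.us = abW SuzT5.iv SuzT5.zs SuzT5.nr := by decide +kernel
  refine L5.iwasawa U5.good.inv F5.1 (by decide +kernel) SuzT5.zs SuzT5.nr (by decide +kernel) (by decide +kernel)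
    (hus ▸ Cov.of SuzT5.zc0 rfl) ?_ ?_
  · intro N hN hz
    exact collapse U5.good U5.top N hz SuzK1.cert
  · exact perfect_of U5.good U5.top (lets := SuzT5.lets) SuzK2.cert

/-! ### `G₂(4)` -/

/-- the presented `G₂(4)` -/
abbrev Q6 : Type := QG 6 SuzT6.iv SuzT6.RL

/-- its letters -/
abbrev q6 : ℕ → Q6 := qg 6 SuzT6.iv SuzT6.RL

theorem U6 : Univ q6 6 SuzT6.iv SuzT6.RL := univ_qg _ _ _

theorem L6 : Lvl q6 6 SuzT6.iv SuzT6.lets SuzT6.P 5 [316, 416] :=
  lvl_of U6 SuzT6.tabOK SuzT6.sk (by norm_num) SuzT6.covO SuzT6.orbs SuzT6.last (show 1 < 416 by norm_num)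
    (SuzB.cert.cl U6.good (by decide +kernel) (by decide +kernel) (by norm_num))

/-- `J₂` in `G₂(4)` -/
theorem sub65 : ∃ e : Q5 ≃* Cl q6 5, ∀ y, isLet 5 y = true → ((e (q5 y) : Cl q6 5) : Q6) = q6 y :=
  simple_cut U5 simple5 (U6.good.cut (by decide +kernel)) (x := 5) rfl
    (U6.ne_one SuzT6.tabOK (x := 5) (i := 7) rfl (by decide +kernel) (by decide +kernel))

theorem simple65 : IsSimpleGroup (Cl q6 5) := by
  obtain ⟨e, _⟩ := sub65
  exact simple_equiv e simple5

theorem card65 : Nat.card (Cl q6 5) = 604800 := by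
  obtain ⟨e, _⟩ := sub65
  rw [← card5]
  exact (Nat.card_congr e.toEquiv).symm

theorem fin65 : Finite (Cl q6 5) := Nat.finite_of_card_ne_zero (by rw [card65]; norm_num)

theorem card6 : Nat.card Q6 = 251596800 := by
  rw [L6.card, card65]
  rfl

theorem simple6 : IsSimpleGroup Q6 :=
  L6.simple U6.good.inv fin65 simple65 (by decide +kernel)
    (noReg_sylow 13 1 32 (by norm_num) rfl (by norm_num) (by decide +kernel) (by decide +kernel) (by decide +kernel))
    (by decide +kernel)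

/-! ### `Suz` -/

/-- the presented `Suz` -/
abbrev Q7 : Type := QG 7 SuzT7.iv SuzT7.RL

/-- its letters -/
abbrev q7 : ℕ → Q7 := qg 7 SuzT7.iv SuzT7.RL

section

variable {G : Type} [Group G] {g : ℕ → G} (U : Univ g 7 SuzT7.iv SuzT7.RL)

include U

theorem L7 : Lvl g 7 SuzT7.iv SuzT7.lets SuzT7.P 6 [1366, 1782] :=
  lvl_of U SuzT7.tabOK SuzT7.sk (by norm_num) SuzT7.covO SuzT7.orbs SuzT7.last (show 1 < 1782 by norm_num)
    (SuzA.cert.cl U.good (by decide +kernel) (by decide +kernel) (by norm_num))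

/-- `G₂(4)` in `Suz` -/
theorem sub76 : ∃ e : Q6 ≃* Cl g 6, ∀ y, isLet 6 y = true → ((e (q6 y) : Cl g 6) : G) = g y :=
  simple_cut U6 simple6 (U.good.cut (by decide +kernel)) (x := 6) rfl
    (U.ne_one SuzT7.tabOK (x := 6) (i := 2) rfl (by decide +kernel) (by decide +kernel))

theorem simple76 : IsSimpleGroup (Cl g 6) := by
  obtain ⟨e, _⟩ := sub76 U
  exact simple_equiv e simple6

theorem card76 : Nat.card (Cl g 6) = 251596800 := by
  obtain ⟨e, _⟩ := sub76 U
  rw [← card6]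
  exact (Nat.card_congr e.toEquiv).symm

theorem fin76 : Finite (Cl g 6) := Nat.finite_of_card_ne_zero (by rw [card76 U]; norm_num)

theorem card7 : Nat.card G = 448345497600 := by
  rw [(L7 U).card, card76 U]
  rfl

theorem simple7 : IsSimpleGroup G :=
  (L7 U).simple U.good.inv (fin76 U) (simple76 U) (by decide +kernel)
    (noReg_primes {2, 3, 11} (by
      intro p hp
      simp only [Finset.mem_insert, Finset.mem_singleton] at hp
      rcases hp with rfl | rfl | rfl
      · exact ⟨by norm_num, show 2 ∣ 1782 by norm_num⟩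
      · exact ⟨by norm_num, show 3 ∣ 1782 by norm_num⟩
      · exact ⟨by norm_num, show 11 ∣ 1782 by norm_num⟩) (by decide +kernel) (by decide +kernel))
    (by decide +kernel)

end

end Cfsg.Agent.CosetEnum.Suz
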