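import Cfsg.Agent.CosetEnum.Basic

/-! Certificate of a coset enumeration (generated data, owner: helper28). -/

set_option autoImplicit false
set_option maxRecDepth 1000000

namespace Cfsg.Agent.CosetEnum.SuzK2

noncomputable def tab : T := .l 0 0x4ffffffffffffffffffffffffffffffffffffffffffff00000e00000fffffffffff0000000000100000900004ffffffffffffffffffffff00000b00004ffffffffffffffffffffff0000000000100000500003fffffffffff00000700000fffffffffffffffffffffffffffffffff0000000000100000100002000003000000000000000000000c00009fffffffffffffffffffffffffffffffff00000d0000400000000009000000000000000090000800000800008fffffffffff00000f00000ffffffffffffffffffffff00000000000000005000070000040000700000600001fffffffffffffffffffffffffffffffff000000000000000010000600000200001fffffffffff0000000000800000000007000000000060000000000000000a000000000000000500000000004000000000030000000000200000000001fffffffffff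

def lw : WT := .n 2 (.n 1 (.l [1,3,4,3,4,3,4,3,4] []) (.l [2,1,2,1,2,1,2,1,2,1] [])) (.n 3 (.l [3,2,3,2,3,2] []) (.n 4 (.l [4,3,2,4,3,4,3,2,4,3,4,3,2,4,3,4,3,2,4,3,4,3,2,5,4,3,4,3,2,4,3,4,3,2,4,3,4,3,2,4,3,4,3,2,4,3,4,3,2,5,4,3,4,3,2,4,3,4,3,2,4,3,4,3,2,4,3,4,3,2,4,3,4,3,2,5,4,3] []) (.l [4,5,4,5,4,5] [])))

def L : LL := .cons 1 1 (.n 1 (.l [2,1,2] []) (.l [3,1,3] [])) (.e) ( .cons 2 2 (.n 1 (.l [3,2,3] []) (.l [4,2,4] [])) (.e) ( .cons 3 3 (.l [4,3,4] []) (.e) ( .cons 4 4 (.l [5,4,5] []) (.e) ( .cons 5 5 (.e) (.e) ( .nil )))))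

def iv : List (Nat × Nat) := []

def RL : List (List Nat × Nat) := [([1, 2], 5), ([1, 3], 2), ([1, 4], 2), ([1, 5], 2), ([2, 3], 3), ([2, 4], 2), ([2, 5], 2), ([3, 4], 8), ([3, 5], 2), ([4, 5], 3), ([1, 3, 4, 3, 4, 3, 4, 3, 4], 1), ([2, 3, 4, 3, 4, 2, 3, 4, 3, 4, 2, 3, 4, 3, 4, 2, 3, 4, 3, 4, 2, 3, 4, 3, 4, 5], 3), ([1, 1, 1, 1], 1), ([1, 2, 1, 2], 1), ([1, 3, 1, 3], 1), ([1, 4, 1, 4], 1), ([1, 5, 1, 5], 1), ([2, 1, 2, 1], 1), ([2, 2, 2, 2], 1), ([2, 3, 2, 3], 1), ([2, 4, 2, 4], 1), ([2, 5, 2, 5], 1), ([3, 1, 3, 1], 1), ([3, 2, 3, 2], 1), ([3, 3, 3, 3], 1), ([3, 4, 3, 4], 1), ([3, 5, 3, 5], 1), ([4, 1, 4, 1], 1), ([4, 2, 4, 2], 1), ([4, 3, 4, 3], 1), ([4, 4, 4, 4], 1), ([4, 5, 4, 5], 1), ([5, 1, 5, 1], 1), ([5, 2, 5, 2], 1), ([5, 3, 5, 3], 1), ([5, 4, 5, 4], 1), ([5, 5, 5, 5], 1)]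

def subs : List (List Nat) := []

noncomputable def P : Par := ⟨tab, 264, 29642774844752946028434172162224104410437116074403984394101141506025761187823615, 10, icG 5 iv, lw⟩

end Cfsg.Agent.CosetEnum.SuzK2
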