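import Cfsg.Agent.CosetEnum.Cox
import Cfsg.Agent.CosetEnum.Suz.Chain
import Cfsg.Prelude.Def_Spor_Suz

/-!
The presented Suzuki group (owner: helper28).
-/

set_option autoImplicit false
set_option maxRecDepth 1000000

namespace Cfsg.Agent.CosetEnum.Suz

open Cfsg.Spor Cfsg.Spor.Suz

theorem mk_of {α : Type} (R : Set (FreeGroup α)) (x : α) : PresentedGroup.mk R (FreeGroup.of x) = PresentedGroup.of x := rfl

/-- numbers of the generators -/
def v : Gen → ℕ
  | .a => 1 | .b => 2 | .c => 3 | .d => 4 | .e => 5 | .f => 6 | .g => 7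

/-- the generators -/
def gS : ℕ → Spor.Suz
  | 1 => PresentedGroup.of .a
  | 2 => PresentedGroup.of .b
  | 3 => PresentedGroup.of .c
  | 4 => PresentedGroup.of .d
  | 5 => PresentedGroup.of .e
  | 6 => PresentedGroup.of .f
  | 7 => PresentedGroup.of .g
  | _ => 1

theorem gS_v (x : Gen) : gS (v x) = PresentedGroup.of x := by cases x <;> rfl

theorem sq (x : Gen) : (PresentedGroup.of x * PresentedGroup.of x : Spor.Suz) = 1 := by
  have h := of_coxPairs (S := {r | r ∈ extra}) gS_v ([v x, v x], 1) (by cases x <;> decide +kernel)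
  simpa [gS_v] using h

theorem gS_good : Good gS 7 SuzT7.iv SuzT7.RL where
  inv x := by
    have h : ∀ y : Gen, (PresentedGroup.of y : Spor.Suz) = (PresentedGroup.of y)⁻¹ := fun y =>
      eq_inv_of_mul_eq_one_left (sq y)
    show gS x = (gS x)⁻¹
    match x with
    | 0 => exact inv_one.symm
    | 1 => exact h _
    | 2 => exact h _
    | 3 => exact h _
    | 4 => exact h _
    | 5 => exact h _
    | 6 => exact h _
    | 7 => exact h _
    | (n + 8) => exact inv_one.symm
  one x hx := by
    match x with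
    | 0 => rfl
    | 1 => exact absurd hx (by decide)
    | 2 => exact absurd hx (by decide)
    | 3 => exact absurd hx (by decide)
    | 4 => exact absurd hx (by decide)
    | 5 => exact absurd hx (by decide)
    | 6 => exact absurd hx (by decide)
    | 7 => exact absurd hx (by decide)
    | (n + 8) => rfl
  rel := by
    have h1 : ∀ p ∈ SuzT7.RL, p ∈ coxPairs Cfsg.Spor.Suz.edges v ∨ p ∈ SuzT7.RL.drop 21 := by decide +kernel
    intro p hp
    rcases h1 p hp with h | h
    · exact of_coxPairs gS_v p h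
    · have h1 := ex_rel (edges := Cfsg.Spor.Suz.edges) (extra := Cfsg.Spor.Suz.extra) (r := a * ((c * d) ^ 4)⁻¹)
        (by unfold extra; simp only [List.mem_cons, true_or, or_true])
      have h2 := ex_rel (edges := Cfsg.Spor.Suz.edges) (extra := Cfsg.Spor.Suz.extra) (r := a * ((f * g) ^ 2)⁻¹)
        (by unfold extra; simp only [List.mem_cons, true_or, or_true])
      have h3 := ex_rel (edges := Cfsg.Spor.Suz.edges) (extra := Cfsg.Spor.Suz.extra) (r := (a * b * c * f) ^ 5)
        (by unfold extra; simp only [List.mem_cons, true_or, or_true])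
      have h4 := ex_rel (edges := Cfsg.Spor.Suz.edges) (extra := Cfsg.Spor.Suz.extra) (r := (b * f * g) ^ 5)
        (by unfold extra; simp only [List.mem_cons, true_or, or_true])
      have h5 := ex_rel (edges := Cfsg.Spor.Suz.edges) (extra := Cfsg.Spor.Suz.extra)
        (r := ((b * c * d * c * d) ^ 5 * e) ^ 3) (by unfold extra; simp only [List.mem_cons, true_or, or_true])
      simp only [SuzT7.RL, List.drop, List.mem_cons, List.not_mem_nil, or_false] at h
      simp only [map_mul, map_pow, map_inv, Cfsg.Spor.Suz.a, Cfsg.Spor.Suz.b,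
        Cfsg.Spor.Suz.c, Cfsg.Spor.Suz.d, Cfsg.Spor.Suz.e, Cfsg.Spor.Suz.f, Cfsg.Spor.Suz.g, FreeGroup.lift_apply_of,
        mul_inv_eq_one] at h1 h2 h3 h4 h5
      have ha : (PresentedGroup.of Gen.a : Spor.Suz) * PresentedGroup.of Gen.a = 1 := sq _
      rcases h with rfl | rfl | rfl | rfl | rfl
      · nth_rewrite 2 [h1] at ha
        simpa [gS, pow_succ, mul_assoc] using ha
      · nth_rewrite 2 [h2] at ha
        simpa [gS, pow_succ, mul_assoc] using ha
      · simpa [gS, pow_succ, mul_assoc] using h5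
      · simpa [gS, mul_assoc] using h3
      · simpa [gS, mul_assoc] using h4

theorem gS_univ : Univ gS 7 SuzT7.iv SuzT7.RL := by
  refine univ_cox (v := v) gS_v gS_good (by decide +kernel) ?_
  intro H _ h hh
  have hi : ∀ x, h x * h x = 1 := by
    intro x
    have := hh.inv x
    have h1 : h x = (h x)⁻¹ := this
    nth_rewrite 1 [h1]
    exact inv_mul_cancel _
  constructor
  · have h1 := hh.rel ([1, 3, 4, 3, 4, 3, 4, 3, 4], 1) (by decide +kernel)
    have h2 := hh.rel ([1, 6, 7, 6, 7], 1) (by decide +kernel)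
    have h3 := hh.rel ([1, 2, 3, 6], 5) (by decide +kernel)
    have h4 := hh.rel ([2, 6, 7], 5) (by decide +kernel)
    have h5 := hh.rel ([2, 3, 4, 3, 4, 2, 3, 4, 3, 4, 2, 3, 4, 3, 4, 2, 3, 4, 3, 4, 2, 3, 4, 3, 4, 5], 3)
      (by decide +kernel)
    unfold extra
    simp only [List.forall_mem_cons, map_mul, map_pow, map_inv, Cfsg.Spor.Suz.a, Cfsg.Spor.Suz.b,
        Cfsg.Spor.Suz.c, Cfsg.Spor.Suz.d, Cfsg.Spor.Suz.e, Cfsg.Spor.Suz.f, Cfsg.Spor.Suz.g, FreeGroup.lift_apply_of,
        mul_inv_eq_one, List.not_mem_nil, false_imp_iff, implies_true, and_true, v]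
    have key : ∀ w : H, h 1 * w = 1 → h 1 = w := by
      intro w hw
      have := hi 1
      rw [← this] at hw
      exact (mul_left_cancel hw).symm
    refine ⟨key _ ?_, key _ ?_, ?_, ?_, ?_⟩
    · simpa [pow_succ, mul_assoc] using h1
    · simpa [pow_succ, mul_assoc] using h2
    · simpa [mul_assoc] using h3
    · simpa [mul_assoc] using h4
    · simpa [pow_succ, mul_assoc] using h5
  · intro φ hφ x
    match x with
    | 0 => exact (map_one φ).trans (hh.one 0 rfl).symm
    | 1 => exact hφ .a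
    | 2 => exact hφ .b
    | 3 => exact hφ .c
    | 4 => exact hφ .d
    | 5 => exact hφ .e
    | 6 => exact hφ .f
    | 7 => exact hφ .g
    | (n + 8) => exact (map_one φ).trans (hh.one (n + 8) (isLet_false (by omega))).symm

theorem suz_simple : IsSimpleGroup Spor.Suz := simple7 gS_univ

theorem suz_card : Nat.card Spor.Suz = 448345497600 := card7 gS_univ

/-- the subgroup generated by `a, …, f` -/
theorem suz_sub6 : (Subgroup.closure ({Cfsg.Spor.Suz.a, Cfsg.Spor.Suz.b, Cfsg.Spor.Suz.c, Cfsg.Spor.Suz.d,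
    Cfsg.Spor.Suz.e, Cfsg.Spor.Suz.f} : Set (FreeGroup Cfsg.Spor.Suz.Gen))).map
      (PresentedGroup.mk (coxRelators Cfsg.Spor.Suz.edges ∪ {r | r ∈ extra})) = Cl gS 6 := by
  apply closure_map
  · intro x hx
    rw [isLet_iff] at hx
    match x, hx with
    | 1, _ => exact ⟨Cfsg.Spor.Suz.a, by simp, rfl⟩
    | 2, _ => exact ⟨Cfsg.Spor.Suz.b, by simp, rfl⟩
    | 3, _ => exact ⟨Cfsg.Spor.Suz.c, by simp, rfl⟩
    | 4, _ => exact ⟨Cfsg.Spor.Suz.d, by simp, rfl⟩
    | 5, _ => exact ⟨Cfsg.Spor.Suz.e, by simp, rfl⟩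
    | 6, _ => exact ⟨Cfsg.Spor.Suz.f, by simp, rfl⟩
    | (n + 7), h => omega
  · intro s hs
    simp only [Set.mem_insert_iff, Set.mem_singleton_iff] at hs
    rcases hs with rfl | rfl | rfl | rfl | rfl | rfl
    · exact mem_Cl gS (x := 1) rfl
    · exact mem_Cl gS (x := 2) rfl
    · exact mem_Cl gS (x := 3) rfl
    · exact mem_Cl gS (x := 4) rfl
    · exact mem_Cl gS (x := 5) rfl
    · exact mem_Cl gS (x := 6) rfl

end Cfsg.Agent.CosetEnum.Suz
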